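import Mathlib
import Cfsg.Prelude.Def_ChevStructure
import Cfsg.Prelude.Def_ChevG2
import Cfsg.Prelude.Def_ChevB2
import Cfsg.Prelude.Def_ChevD4
import Cfsg.Prelude.Def_ChevF4
import Cfsg.Prelude.Def_ChevE6
import Cfsg.Prelude.Def_ChevE7
import Cfsg.Prelude.Def_ChevE8
import Cfsg.Agent.Lib.Helper5.ChevCoLinDef
import Cfsg.Agent.Lib.Helper5.ChevWeights

set_option autoImplicit false

/-!
Two finite checks on the root data of the seven types, used for the structure of the
centraliser of the unipotent radical of a proper parabolic subgroup: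

* `checkMove`: for fundamental indices `i ≠ j0` there is a positive root with positive
  `j0`-coordinate which is moved by the fundamental reflection `s_i`;
* `checkAdj`: for `i ≠ j0` there are positive roots `s`, `s + p_i`, both with positive
  `j0`-coordinate.
-/

namespace Cfsg.Agent.Lib.Helper5.ParaFit

open Cfsg Cfsg.Lie Cfsg.Agent.Lib.Helper5.ChevSym Cfsg.Agent.Lib.Helper5.ChevStruct

/-- some positive root with positive `j0`-coordinate is moved by `s_i` -/
def moveWitness (D : ChevalleyDatum) (j0 i : ℕ) : Bool :=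
  (List.range D.nroots).any fun r =>
    decide (D.IsPosRoot r) && decide (0 < co D r j0) && !(Nat.beq (D.reflectRoot i r) r)

def checkMove (D : ChevalleyDatum) : Bool :=
  (List.range D.rank).all fun j0 => (List.range D.rank).all fun i =>
    Nat.beq i j0 || moveWitness D j0 i

theorem checkMove_spec (D : ChevalleyDatum) (h : checkMove D = true) (j0 i : ℕ)
    (hj0 : j0 < D.rank) (hi : i < D.rank) (hne : i ≠ j0) :
    ∃ r, D.IsPosRoot r ∧ 0 < co D r j0 ∧ D.reflectRoot i r ≠ r := by
  unfold checkMove at h
  rw [List.all_eq_true] at h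
  have h1 := h j0 (List.mem_range.2 hj0)
  rw [List.all_eq_true] at h1
  have h2 := h1 i (List.mem_range.2 hi)
  rw [Bool.or_eq_true] at h2
  rcases h2 with h2 | h2
  · exact absurd (Nat.eq_of_beq_eq_true h2) hne
  · unfold moveWitness at h2
    rw [List.any_eq_true] at h2
    obtain ⟨r, _, hr⟩ := h2
    simp only [Bool.and_eq_true, decide_eq_true_eq, Bool.not_eq_true'] at hr
    obtain ⟨⟨h3, h4⟩, h5⟩ := hr
    refine ⟨r, h3, h4, ?_⟩
    intro e
    rw [e] at h5
    have : Nat.beq r r = true := by rw [Nat.beq_eq]
    rw [this] at h5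
    exact Bool.noConfusion h5

/-- some chain entry `(s, s + p_i)` of `p_i` with both roots positive and with positive
`j0`-coordinate -/
def adjWitness (D : ChevalleyDatum) (j0 i : ℕ) : Bool :=
  (flatChain D (D.simple i)).any fun x =>
    Nat.beq x.2.2 0 && decide (D.IsPosRoot x.1) && decide (0 < co D x.1 j0) &&
      decide (D.IsPosRoot x.2.1) && decide (0 < co D x.2.1 j0)

def checkAdj (D : ChevalleyDatum) : Bool :=
  (List.range D.rank).all fun j0 => (List.range D.rank).all fun i =>
    Nat.beq i j0 || adjWitness D j0 i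

theorem checkAdj_spec (D : ChevalleyDatum) (h : checkAdj D = true) (j0 i : ℕ)
    (hj0 : j0 < D.rank) (hi : i < D.rank) (hne : i ≠ j0) :
    ∃ x ∈ flatChain D (D.simple i), x.2.2 = 0 ∧ D.IsPosRoot x.1 ∧ 0 < co D x.1 j0 ∧
      D.IsPosRoot x.2.1 ∧ 0 < co D x.2.1 j0 := by
  unfold checkAdj at h
  rw [List.all_eq_true] at h
  have h1 := h j0 (List.mem_range.2 hj0)
  rw [List.all_eq_true] at h1
  have h2 := h1 i (List.mem_range.2 hi)
  rw [Bool.or_eq_true] at h2
  rcases h2 with h2 | h2
  · exact absurd (Nat.eq_of_beq_eq_true h2) hne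
  · unfold adjWitness at h2
    rw [List.any_eq_true] at h2
    obtain ⟨x, hx, hr⟩ := h2
    simp only [Bool.and_eq_true, decide_eq_true_eq] at hr
    obtain ⟨⟨⟨⟨h3, h4⟩, h5⟩, h6⟩, h7⟩ := hr
    exact ⟨x, hx, Nat.eq_of_beq_eq_true h3, h4, h5, h6, h7⟩

set_option maxRecDepth 1000000 in
theorem chkMove_G2 : checkMove chevG2 = true := by decide +kernel
set_option maxRecDepth 1000000 in
theorem chkMove_B2 : checkMove chevB2 = true := by decide +kernel
set_option maxRecDepth 1000000 in
theorem chkMove_D4 : checkMove chevD4 = true := by decide +kernel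
set_option maxRecDepth 1000000 in
theorem chkMove_F4 : checkMove chevF4 = true := by decide +kernel
set_option maxRecDepth 1000000 in
theorem chkMove_E6 : checkMove chevE6 = true := by decide +kernel
set_option maxRecDepth 1000000 in
theorem chkMove_E7 : checkMove chevE7 = true := by decide +kernel
set_option maxRecDepth 1000000 in
theorem chkMove_E8 : checkMove chevE8 = true := by decide +kernel

theorem chkMove_all (D : ChevalleyDatum)
    (hD : D ∈ [chevG2, chevB2, chevD4, chevF4, chevE6, chevE7, chevE8]) :
    checkMove D = true := by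
  simp only [List.mem_cons, List.not_mem_nil, or_false] at hD
  rcases hD with rfl | rfl | rfl | rfl | rfl | rfl | rfl
  · exact chkMove_G2
  · exact chkMove_B2
  · exact chkMove_D4
  · exact chkMove_F4
  · exact chkMove_E6
  · exact chkMove_E7
  · exact chkMove_E8

set_option maxRecDepth 1000000 in
theorem chkAdj_G2 : checkAdj chevG2 = true := by decide +kernel
set_option maxRecDepth 1000000 in
theorem chkAdj_B2 : checkAdj chevB2 = true := by decide +kernel
set_option maxRecDepth 1000000 in
theorem chkAdj_D4 : checkAdj chevD4 = true := by decide +kernel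
set_option maxRecDepth 1000000 in
theorem chkAdj_F4 : checkAdj chevF4 = true := by decide +kernel
set_option maxRecDepth 1000000 in
theorem chkAdj_E6 : checkAdj chevE6 = true := by decide +kernel
set_option maxRecDepth 1000000 in
theorem chkAdj_E7 : checkAdj chevE7 = true := by decide +kernel
set_option maxRecDepth 1000000 in
theorem chkAdj_E8 : checkAdj chevE8 = true := by decide +kernel

theorem chkAdj_all (D : ChevalleyDatum)
    (hD : D ∈ [chevG2, chevB2, chevD4, chevF4, chevE6, chevE7, chevE8]) :
    checkAdj D = true := by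
  simp only [List.mem_cons, List.not_mem_nil, or_false] at hD
  rcases hD with rfl | rfl | rfl | rfl | rfl | rfl | rfl
  · exact chkAdj_G2
  · exact chkAdj_B2
  · exact chkAdj_D4
  · exact chkAdj_F4
  · exact chkAdj_E6
  · exact chkAdj_E7
  · exact chkAdj_E8

end Cfsg.Agent.Lib.Helper5.ParaFit
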