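import Mathlib
import Cfsg.Agent.Lib.Helper5.BlockGrade

set_option autoImplicit false
set_option linter.unusedSectionVars false

/-!
Matrices graded by an integer-valued level function: matrices all of whose nonzero entries
raise the level by at least `m`, and the group of invertible block triangular matrices.
-/

namespace Cfsg.Agent.Lib.Helper5.ParaFit

open Matrix Cfsg.Agent.Lib.Helper5.BlockGrade

variable {ι : Type*} [Fintype ι] [DecidableEq ι] {F : Type*} [Field F]

/-- nonzero entries only at positions whose row level exceeds the column level by at least `m` -/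
def ShiftGE (L : ι → ℤ) (m : ℤ) (M : Matrix ι ι F) : Prop := ∀ i j, M i j ≠ 0 → L j + m ≤ L i

theorem ShiftGE.mul {L : ι → ℤ} {m n : ℤ} {M N : Matrix ι ι F} (hM : ShiftGE L m M)
    (hN : ShiftGE L n N) : ShiftGE L (m + n) (M * N) := by
  intro i j h
  rw [Matrix.mul_apply] at h
  obtain ⟨k, _, hk⟩ := Finset.exists_ne_zero_of_sum_ne_zero h
  have h1 := hM i k (left_ne_zero_of_mul hk)
  have h2 := hN k j (right_ne_zero_of_mul hk)
  omega

theorem shiftGE_one (L : ι → ℤ) : ShiftGE L 0 (1 : Matrix ι ι F) := by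
  intro i j h
  by_cases hij : i = j
  · rw [hij, add_zero]
  · exact absurd (Matrix.one_apply_ne hij) h

theorem shiftGE_of_blockDiag {L : ι → ℤ} {M : Matrix ι ι F} (h : BlockDiag L M) :
    ShiftGE L 0 M := by
  intro i j hne
  have := h i j hne
  omega

theorem shiftGE_of_blockUp {L : ι → ℤ} {M : Matrix ι ι F} (h : BlockUp L M) :
    ShiftGE L 0 M := by
  intro i j hne
  by_cases hij : i = j
  · rw [hij, add_zero]
  · have h1 : (M - 1) i j ≠ 0 := by
      rw [Matrix.sub_apply, Matrix.one_apply_ne hij, sub_zero]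
      exact hne
    have := h i j h1
    omega

/-- the group of invertible block triangular matrices -/
def blockTriSub (L : ι → ℤ) (F : Type*) [Field F] : Subgroup (GL ι F) where
  carrier := {g | ShiftGE L 0 (g : Matrix ι ι F) ∧ ShiftGE L 0 ((g⁻¹ : GL ι F) : Matrix ι ι F)}
  one_mem' := by
    refine ⟨?_, ?_⟩
    · rw [Units.val_one]; exact shiftGE_one L
    · rw [inv_one, Units.val_one]; exact shiftGE_one L
  mul_mem' := by
    intro g h hg hh
    refine ⟨?_, ?_⟩
    · rw [Units.val_mul]
      have := hg.1.mul hh.1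
      rwa [add_zero] at this
    · rw [_root_.mul_inv_rev, Units.val_mul]
      have := hh.2.mul hg.2
      rwa [add_zero] at this
  inv_mem' := by
    intro g hg
    refine ⟨hg.2, ?_⟩
    rw [inv_inv]; exact hg.1

theorem blockUpSub_le_blockTriSub (L : ι → ℤ) : blockUpSub L F ≤ blockTriSub L F :=
  fun _ hg => ⟨shiftGE_of_blockUp hg.1, shiftGE_of_blockUp hg.2⟩

theorem blockDiagSub_le_blockTriSub (L : ι → ℤ) : blockDiagSub L F ≤ blockTriSub L F :=
  fun _ hg => ⟨shiftGE_of_blockDiag hg.1, shiftGE_of_blockDiag hg.2⟩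

/-- conjugation by a block triangular matrix preserves the shift of `g - 1` -/
theorem shiftGE_conj_sub_one {L : ι → ℤ} {m : ℤ} (b g : GL ι F) (hb : b ∈ blockTriSub L F)
    (hg : ShiftGE L m ((g : Matrix ι ι F) - 1)) :
    ShiftGE L m (((b * g * b⁻¹ : GL ι F) : Matrix ι ι F) - 1) := by
  have hbb : (b : Matrix ι ι F) * ((b⁻¹ : GL ι F) : Matrix ι ι F) = 1 := by
    rw [← Units.val_mul, mul_inv_cancel, Units.val_one]
  have e : ((b * g * b⁻¹ : GL ι F) : Matrix ι ι F) - 1
      = (b : Matrix ι ι F) * ((g : Matrix ι ι F) - 1) * ((b⁻¹ : GL ι F) : Matrix ι ι F) := by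
    rw [Units.val_mul, Units.val_mul, Matrix.mul_sub, Matrix.sub_mul, Matrix.mul_one, hbb]
  rw [e]
  have := (hb.1.mul hg).mul hb.2
  rwa [zero_add, add_zero] at this

end Cfsg.Agent.Lib.Helper5.ParaFit
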