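import Mathlib
import Cfsg.Prelude.Def_ChevStructure
import Cfsg.Agent.Lib.Helper5.ChevParaNorm
import Cfsg.Agent.Lib.Helper5.ChevChk.UpAll
import Cfsg.Agent.Lib.Helper5.ChevChk.CoBasisAll
import Cfsg.Agent.Lib.Helper5.ParaFit.Shift

set_option autoImplicit false

/-!
The "leading entry" argument: with respect to the height grading, conjugation by an element of
`B` cannot turn a root element `x_γ(t)` into a nontrivial root element `x_δ(u)` of smaller
height; consequently no `n_{p_i}` acts on the unipotent radical `U_J` of a proper parabolic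
subgroup in the same way as an element of `B`.
-/

namespace Cfsg.Agent.Lib.Helper5.ParaFit

open Cfsg Cfsg.Lie Cfsg.Agent.Lib.Helper5.ChevSym Cfsg.Agent.Lib.Helper5.ChevStruct
  Cfsg.Agent.Lib.Helper5.ChevPosUni Cfsg.Agent.Lib.Helper5.BlockGrade
  Cfsg.Agent.Lib.Helper5.UniTri

variable {F : Type*} [Field F]

/-- every positive root lies outside the empty root subsystem -/
theorem mem_radSet_empty (D : ChevalleyDatum) (hD : D ∈ Seven) (r : ℕ) (hr : D.IsPosRoot r) :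
    r ∈ radSet D ∅ := by
  refine ⟨hr, ?_⟩
  rintro ⟨_, h⟩
  obtain ⟨i, hi, hne⟩ := exists_coroot_ne_zero (F := ℚ) D hD r hr.1
  apply hne
  rw [h i hi (Set.notMem_empty i)]
  simp

theorem lvl_pos (D : ChevalleyDatum) (hD : D ∈ Seven) (rl : ℕ → ℤ) (h : LvlOK D rl) (r : ℕ)
    (hr : D.IsPosRoot r) : 0 < lvlJ D rl ∅ r :=
  lvlJ_pos D hD rl h ∅ r (mem_radSet_empty D hD r hr)

/-- `B` is block triangular for the height grading -/
theorem borel_le_blockTriSub (D : ChevalleyDatum) (hD : D ∈ Seven) (rl : ℕ → ℤ)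
    (h : LvlOK D rl) : D.borelSubgroup F ≤ blockTriSub (idxLvl D rl ∅) F := by
  have h1 : D.borelSubgroup F ≤ D.parabolicSubgroup F ∅ := by
    unfold ChevalleyDatum.parabolicSubgroup
    exact le_sup_left
  refine h1.trans ?_
  rw [← unipotentRadical_sup_levi D hD ∅]
  apply sup_le
  · exact (unipotentRadical_le_blockUpSub D hD rl h ∅).trans (blockUpSub_le_blockTriSub _)
  · exact (leviSubgroup_le_blockDiagSub D hD rl h ∅).trans (blockDiagSub_le_blockTriSub _)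

/-- `x_γ(t) - 1` raises the height by at least the height of `γ` -/
theorem x_sub_one_shiftGE (D : ChevalleyDatum) (rl : ℕ → ℤ) (h : LvlOK D rl) (γ : ℕ)
    (hγ : γ < D.nroots) (hpos : 0 ≤ lvlJ D rl ∅ γ) (t : F) :
    ShiftGE (idxLvl D rl ∅) (lvlJ D rl ∅ γ) (D.x F γ t - 1) := by
  intro row col hne
  obtain ⟨i, hi, e⟩ := x_sub_one_lvl D rl h ∅ γ hγ t row col hne
  rw [e]
  have h1 : (1 : ℤ) ≤ (i : ℤ) := by exact_mod_cast hi
  nlinarith

/-- `x_δ(u) - 1`, `u ≠ 0`, has a nonzero entry raising the height by exactly the height of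
`δ` -/
theorem not_shiftGE_of_lt (D : ChevalleyDatum) (hD : D ∈ Seven) (rl : ℕ → ℤ) (h : LvlOK D rl)
    (δ : ℕ) (hδ : δ < D.nroots) (u : F) (hu : u ≠ 0) (m : ℤ) (hm : lvlJ D rl ∅ δ < m) :
    ¬ ShiftGE (idxLvl D rl ∅) m (D.x F δ u - 1) := by
  intro hS
  obtain ⟨hn1, hn2, _⟩ := neg_lt D hD δ hδ
  obtain ⟨i, hi, hne⟩ := exists_coroot_ne_zero (F := F) D hD δ hδ
  have hent : (D.x F δ u - 1) (Sum.inl ⟨i, hi⟩) (Sum.inr ⟨D.neg δ, hn1⟩) ≠ 0 := by
    unfold ChevalleyDatum.x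
    rw [dif_pos hδ, Matrix.sub_apply, Matrix.one_apply_ne (by simp), sub_zero,
      xMat_inl_neg D ⟨δ, hδ⟩ ⟨D.neg δ, hn1⟩ rfl (by
        intro e
        exact hn2 (congrArg Fin.val e)) u ⟨i, hi⟩]
    exact mul_ne_zero hne hu
  have := hS _ _ hent
  have e1 : idxLvl D rl ∅ (Sum.inl ⟨i, hi⟩) = 0 := rfl
  have e2 : idxLvl D rl ∅ (Sum.inr ⟨D.neg δ, hn1⟩) = lvlJ D rl ∅ (D.neg δ) := rfl
  rw [e1, e2, lvlJ_neg D rl h ∅ δ hδ] at this
  omega

/-- conjugation by an element of `B` does not turn `x_γ(t)` into a nontrivial `x_δ(u)` with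
`δ` of smaller height -/
theorem no_conj_lower (D : ChevalleyDatum) (hD : D ∈ Seven) (rl : ℕ → ℤ) (h : LvlOK D rl)
    (γ δ : ℕ) (hγ : γ < D.nroots) (hδ : δ < D.nroots) (hpos : 0 ≤ lvlJ D rl ∅ γ)
    (hlt : lvlJ D rl ∅ δ < lvlJ D rl ∅ γ) (t u : F) (hu : u ≠ 0) (b g g' : GL D.Idx F)
    (hb : b ∈ D.borelSubgroup F) (hg : (g : Matrix D.Idx D.Idx F) = D.x F γ t)
    (hg' : (g' : Matrix D.Idx D.Idx F) = D.x F δ u) (he : b * g * b⁻¹ = g') : False := by
  have h1 : ShiftGE (idxLvl D rl ∅) (lvlJ D rl ∅ γ) ((g : Matrix D.Idx D.Idx F) - 1) := by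
    rw [hg]
    exact x_sub_one_shiftGE D rl h γ hγ hpos t
  have h2 := shiftGE_conj_sub_one b g (borel_le_blockTriSub D hD rl h hb) h1
  rw [he, hg'] at h2
  exact not_shiftGE_of_lt D hD rl h δ hδ u hu _ hlt h2

end Cfsg.Agent.Lib.Helper5.ParaFit
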