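import Mathlib
import Cfsg.Prelude.Def_ChevStructure
import Cfsg.Agent.Lib.Helper5.ParaFit.Lead
import Cfsg.Agent.Lib.Helper5.ParaFit.Chk
import Cfsg.Agent.Lib.Helper5.ChevConj

set_option autoImplicit false

/-!
No `n_{p_i}` acts on the unipotent radical `U_J` of a proper parabolic subgroup in the same way
as an element of `B`.
-/

namespace Cfsg.Agent.Lib.Helper5.ParaFit

open Cfsg Cfsg.Lie Cfsg.Agent.Lib.Helper5.ChevSym Cfsg.Agent.Lib.Helper5.ChevStruct
  Cfsg.Agent.Lib.Helper5.ChevPosUni Cfsg.Agent.Lib.Helper5.BlockGrade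
  Cfsg.Agent.Lib.Helper5.UniTri

variable {F : Type*} [Field F]

/-- a fundamental reflection changes the height of every positive root which it moves to a
positive root -/
theorem lvl_reflect_ne (D : ChevalleyDatum) (hD : D ∈ Seven) (rl : ℕ → ℤ) (h : LvlOK D rl)
    (i : ℕ) (hi : i < D.rank) (γ : ℕ) (hγ : D.IsPosRoot γ)
    (hδ : D.IsPosRoot (D.reflectRoot i γ)) (hne : D.reflectRoot i γ ≠ γ) :
    lvlJ D rl ∅ (D.reflectRoot i γ) ≠ lvlJ D rl ∅ γ := by
  obtain ⟨hpp, hnp, hnn, hnlt, _⟩ := checkUp_spec D i (chkUp_all D hD i hi)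
  have hplt : D.simple i < D.nroots := hpp.1
  have hlp : 0 < lvlJ D rl ∅ (D.simple i) := lvl_pos D hD rl h _ hpp
  have hln : lvlJ D rl ∅ (D.neg (D.simple i)) = - lvlJ D rl ∅ (D.simple i) :=
    lvlJ_neg D rl h ∅ _ hplt
  unfold ChevalleyDatum.reflectRoot at hδ hne ⊢
  simp only at hδ hne ⊢
  by_cases h1 : γ = D.simple i
  · rw [if_pos h1] at hδ
    exact absurd hδ hnp
  · rw [if_neg h1] at hδ hne ⊢
    by_cases h2 : γ = D.neg (D.simple i)
    · rw [h2] at hγ
      exact absurd hγ hnp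
    · rw [if_neg h2] at hδ hne ⊢
      by_cases h3 : 0 < D.cartan i γ
      · rw [if_pos h3] at hδ hne ⊢
        cases hc : D.chainRoot (D.neg (D.simple i)) γ (D.cartan i γ).toNat with
        | none =>
          rw [hc] at hne
          exact absurd rfl hne
        | some u =>
          rw [hc] at hne
          simp only [Option.getD_some] at hne ⊢
          have h4 : 1 ≤ (D.cartan i γ).toNat := by omega
          obtain ⟨_, _, hw⟩ := chainRoot_wt D rl h _ γ _ u hnlt h4 hc
          rw [lvlJ_add D rl ∅ u (D.neg (D.simple i)) γ _ hw, hln]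
          have h5 : (1 : ℤ) ≤ ((D.cartan i γ).toNat : ℤ) := by exact_mod_cast h4
          intro e
          nlinarith
      · rw [if_neg h3] at hδ hne ⊢
        by_cases h4 : D.cartan i γ < 0
        · rw [if_pos h4] at hδ hne ⊢
          cases hc : D.chainRoot (D.simple i) γ (-D.cartan i γ).toNat with
          | none =>
            rw [hc] at hne
            exact absurd rfl hne
          | some u =>
            rw [hc] at hne
            simp only [Option.getD_some] at hne ⊢
            have h5 : 1 ≤ (-D.cartan i γ).toNat := by omega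
            obtain ⟨_, _, hw⟩ := chainRoot_wt D rl h _ γ _ u hplt h5 hc
            rw [lvlJ_add D rl ∅ u (D.simple i) γ _ hw]
            have h6 : (1 : ℤ) ≤ ((-D.cartan i γ).toNat : ℤ) := by exact_mod_cast h5
            intro e
            nlinarith
        · rw [if_neg h4] at hne
          exact absurd rfl hne

/-- conjugation of a root element by `n_{p_i}` -/
theorem n_conj_x (D : ChevalleyDatum) (hD : D ∈ Seven) (i : ℕ) (hi : i < D.rank) (s : ℕ)
    (hs : s < D.nroots) (t : F) (n : GL D.Idx F)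
    (hn : (n : Matrix D.Idx D.Idx F) = D.nMat F (D.simple i) 1) :
    n * xGL D hD s t * n⁻¹ = xGL D hD (D.reflectRoot i s) ((eta D i s : F) * t) := by
  have e : n * xGL D hD s t = xGL D hD (D.reflectRoot i s) ((eta D i s : F) * t) * n := by
    apply Units.ext
    rw [Units.val_mul, Units.val_mul, hn, xGL_val, xGL_val]
    exact nMat_simple_conj_x D hD i s hi hs t
  rw [e, mul_inv_cancel_right]

theorem eta_cast_ne_zero (D : ChevalleyDatum) (hD : D ∈ Seven) (i : ℕ) (hi : i < D.rank) (s : ℕ)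
    (hs : s < D.nroots) : ((eta D i s : ℤ) : F) ≠ 0 := by
  rcases eta_sq D hD i hi s hs with e | e
  · rw [e]; simp
  · rw [e]; simp

/-- `U_J ≤ U` -/
theorem unipotentRadical_le_pos (D : ChevalleyDatum) (J : Set ℕ) :
    D.unipotentRadical F J ≤ D.posUnipotent F := by
  unfold ChevalleyDatum.unipotentRadical ChevalleyDatum.posUnipotent
  apply Subgroup.closure_mono
  rintro g ⟨r, t, hp, _, hg⟩
  exact ⟨r, t, hp, hg⟩

theorem xGL_mem_unipotentRadical (D : ChevalleyDatum) (hD : D ∈ Seven) (J : Set ℕ) (r : ℕ)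
    (hr : r ∈ radSet D J) (t : F) : xGL D hD r t ∈ D.unipotentRadical F J :=
  Subgroup.subset_closure ⟨r, t, hr.1, hr.2, rfl⟩

/-- a positive root with a positive coordinate outside `J` lies outside `Φ_J` -/
theorem mem_radSet_of_co_pos (D : ChevalleyDatum) (J : Set ℕ) (j0 : ℕ) (hj0 : j0 < D.rank)
    (hj0J : j0 ∉ J) (r : ℕ) (hr : D.IsPosRoot r) (hco : 0 < co D r j0) : r ∈ radSet D J := by
  refine ⟨hr, ?_⟩
  rintro ⟨_, h⟩
  have := h j0 hj0 hj0J
  unfold co at hco
  omega

theorem conj_mem_unipotentRadical (D : ChevalleyDatum) (hD : D ∈ Seven) (J : Set ℕ)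
    (b u : GL D.Idx F) (hb : b ∈ D.parabolicSubgroup F J) (hu : u ∈ D.unipotentRadical F J) :
    b * u * b⁻¹ ∈ D.unipotentRadical F J :=
  (Subgroup.mem_normalizer_iff.1 (parabolic_le_normalizer_unipotentRadical D hD J hb) u).1 hu

theorem borel_le_parabolic (D : ChevalleyDatum) (J : Set ℕ) :
    D.borelSubgroup F ≤ D.parabolicSubgroup F J := by
  unfold ChevalleyDatum.parabolicSubgroup
  exact le_sup_left

/-- no `n_{p_i}` acts on `U_J` in the same way as an element of `B` -/
theorem not_act_like_borel (D : ChevalleyDatum) (hD : D ∈ Seven) (J : Set ℕ) (j0 : ℕ)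
    (hj0 : j0 < D.rank) (hj0J : j0 ∉ J) (i : ℕ) (hi : i < D.rank) (n b : GL D.Idx F)
    (hn : (n : Matrix D.Idx D.Idx F) = D.nMat F (D.simple i) 1) (hb : b ∈ D.borelSubgroup F)
    (hact : ∀ u ∈ D.unipotentRadical F J, n * u * n⁻¹ = b * u * b⁻¹) : False := by
  obtain ⟨rl, h⟩ := exists_lvlOK D hD
  obtain ⟨hpp, hnp, hnn, hnlt, _⟩ := checkUp_spec D i (chkUp_all D hD i hi)
  have hbP : b ∈ D.parabolicSubgroup F J := borel_le_parabolic D J hb
  by_cases hiJ : i ∈ J
  · -- `i ∈ J`: a root of `Φ⁺ ∖ Φ_J` moved by `s_i`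
    have hij0 : i ≠ j0 := by
      rintro rfl
      exact hj0J hiJ
    obtain ⟨γ, hγp, hγco, hγne⟩ := checkMove_spec D (chkMove_all D hD) j0 i hj0 hi hij0
    have hγR : γ ∈ radSet D J := mem_radSet_of_co_pos D J j0 hj0 hj0J γ hγp hγco
    set δ := D.reflectRoot i γ with hδdef
    have hδR : δ ∈ radSet D J := reflect_mem_radSet D hD J i hi hiJ γ hγR
    have hδp : D.IsPosRoot δ := hδR.1
    have hinv : D.reflectRoot i δ = γ := (reflectRoot_invol D hD i hi γ hγp.1).2
    have hlne := lvl_reflect_ne D hD rl h i hi γ hγp hδp hγne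
    rcases lt_or_gt_of_ne hlne with hlt | hlt
    · -- height of `δ` smaller: conjugate `x_γ(1)`
      have h1 := hact _ (xGL_mem_unipotentRadical D hD J γ hγR 1)
      rw [n_conj_x D hD i hi γ hγp.1 1 n hn] at h1
      exact no_conj_lower D hD rl h γ δ hγp.1 hδp.1 (lvl_pos D hD rl h γ hγp).le hlt 1 _
        (mul_ne_zero (eta_cast_ne_zero D hD i hi γ hγp.1) one_ne_zero) b _ _ hb rfl rfl h1.symm
    · -- height of `γ` smaller: conjugate `x_δ(1)`
      have h1 := hact _ (xGL_mem_unipotentRadical D hD J δ hδR 1)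
      rw [n_conj_x D hD i hi δ hδp.1 1 n hn, hinv] at h1
      exact no_conj_lower D hD rl h δ γ hδp.1 hγp.1 (lvl_pos D hD rl h δ hδp).le hlt 1 _
        (mul_ne_zero (eta_cast_ne_zero D hD i hi δ hδp.1) one_ne_zero) b _ _ hb rfl rfl h1.symm
  · -- `i ∉ J`: `x_{p_i}(1) ∈ U_J` is conjugated to a negative root element
    have hco : co D (D.simple i) i = 1 := by
      have := (checkCoBasis_spec D (chkCoBasis_all D hD)).1 i hi i hi
      rwa [if_pos rfl] at this
    have hR : D.simple i ∈ radSet D J :=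
      mem_radSet_of_co_pos D J i hi hiJ _ hpp (by rw [hco]; exact one_pos)
    have hu := xGL_mem_unipotentRadical (F := F) D hD J _ hR 1
    have h1 := hact _ hu
    rw [n_conj_x D hD i hi _ hpp.1 1 n hn, reflectRoot_simple] at h1
    have h2 : b * xGL D hD (D.simple i) 1 * b⁻¹ ∈ D.posUnipotent F :=
      unipotentRadical_le_pos D J (conj_mem_unipotentRadical D hD J b _ hbP hu)
    rw [← h1] at h2
    exact hnp (isPosRoot_of_x_mem_pos D hD _ hnlt _
      (mul_ne_zero (eta_cast_ne_zero D hD i hi _ hpp.1) one_ne_zero) _ rfl h2)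

end Cfsg.Agent.Lib.Helper5.ParaFit
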