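import Mathlib
import Cfsg.Prelude.Def_ChevStructure
import Cfsg.Agent.Lib.Helper5.ParaFit.Act
import Cfsg.Agent.Lib.Helper5.ChevBNPair
import Cfsg.Agent.Lib.Helper5.ChevCore
import Cfsg.Agent.Lib.Helper5.ChevTorusCard
import Cfsg.Agent.Lib.Helper5.ChevChk.BNAll
import Cfsg.Agent.Lib.Helper5.ChevChk.WtAll
import Cfsg.Agent.Lib.Helper5.ChevUCard
import Cfsg.Agent.S0311
import Cfsg.Agent.Lib.Helper8.CharP

set_option autoImplicit false

/-!
The centraliser in a proper parabolic subgroup `P_J` of its unipotent radical `U_J` is a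
`p`-group, hence `F*(P_J) = O_p(P_J)`.
-/

namespace Cfsg.Agent.Lib.Helper5.ParaFit

open Cfsg Cfsg.Lie Cfsg.Agent.Lib.Helper5.ChevSym Cfsg.Agent.Lib.Helper5.ChevStruct
  Cfsg.Agent.Lib.Helper5.ChevPosUni Cfsg.Agent.Lib.Helper5.BlockGrade
  Cfsg.Agent.Lib.Helper5.UniTri

variable {F : Type*} [Field F]

/-- a subgroup between `B` and `G` is `B` or contains some `n_{p_i}` -/
theorem le_borel_or_exists_n (D : ChevalleyDatum) (hD : D ∈ Seven) (M : Subgroup (GL D.Idx F))
    (hBM : D.borelSubgroup F ≤ M) (hMG : M ≤ D.group F) :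
    M ≤ D.borelSubgroup F ∨
      ∃ i < D.rank, ∃ n ∈ M, (n : Matrix D.Idx D.Idx F) = D.nMat F (D.simple i) 1 := by
  have hB : (chevBNPair D hD F).B ≤ M.subgroupOf (D.group F) := by
    rw [chevBNPair_B]
    intro x hx
    rw [Subgroup.mem_subgroupOf] at hx ⊢
    exact hBM hx
  obtain ⟨J', hJ'S, hM⟩ := Cfsg.Agent.S0311.result (chevBNPair D hD F) (M.subgroupOf (D.group F)) hB
  by_cases hJ' : J' = ∅
  · left
    intro g hg
    have hgG := hMG hg
    have h1 : (⟨g, hgG⟩ : ↥(D.group F)) ∈ M.subgroupOf (D.group F) := by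
      rw [Subgroup.mem_subgroupOf]
      exact hg
    rw [hM, hJ'] at h1
    unfold BNPair.parabolic at h1
    rw [Subgroup.closure_empty, sup_bot_eq, chevBNPair_B, Subgroup.mem_subgroupOf] at h1
    exact h1
  · right
    obtain ⟨s, hs⟩ := Set.nonempty_iff_ne_empty.2 hJ'
    have hsS := hJ'S hs
    rw [chevBNPair_S] at hsS
    obtain ⟨i, hi, hval⟩ := hsS
    refine ⟨i, hi, (s : GL D.Idx F), ?_, hval⟩
    have h1 : s ∈ M.subgroupOf (D.group F) := by
      rw [hM]
      unfold BNPair.parabolic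
      exact Subgroup.mem_sup_right (Subgroup.subset_closure hs)
    rwa [Subgroup.mem_subgroupOf] at h1

/-- the elements of `P_J` which act on `U_J` in the same way as some element of `B` -/
def actSub (D : ChevalleyDatum) (hD : D ∈ Seven) (F : Type*) [Field F] (J : Set ℕ) :
    Subgroup (GL D.Idx F) where
  carrier := {g | g ∈ D.parabolicSubgroup F J ∧ ∃ b ∈ D.borelSubgroup F,
    ∀ u ∈ D.unipotentRadical F J, g * u * g⁻¹ = b * u * b⁻¹}
  one_mem' := ⟨one_mem _, 1, one_mem _, fun _ _ => rfl⟩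
  mul_mem' := by
    rintro g1 g2 ⟨hg1, b1, hb1, h1⟩ ⟨hg2, b2, hb2, h2⟩
    refine ⟨mul_mem hg1 hg2, b1 * b2, mul_mem hb1 hb2, fun u hu => ?_⟩
    have hu2 : b2 * u * b2⁻¹ ∈ D.unipotentRadical F J :=
      conj_mem_unipotentRadical D hD J b2 u (borel_le_parabolic D J hb2) hu
    calc g1 * g2 * u * (g1 * g2)⁻¹ = g1 * (g2 * u * g2⁻¹) * g1⁻¹ := by group
      _ = g1 * (b2 * u * b2⁻¹) * g1⁻¹ := by rw [h2 u hu]
      _ = b1 * (b2 * u * b2⁻¹) * b1⁻¹ := h1 _ hu2
      _ = b1 * b2 * u * (b1 * b2)⁻¹ := by group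
  inv_mem' := by
    rintro g ⟨hg, b, hb, h⟩
    refine ⟨inv_mem hg, b⁻¹, inv_mem hb, fun u hu => ?_⟩
    have hu' : b⁻¹ * u * (b⁻¹)⁻¹ ∈ D.unipotentRadical F J :=
      conj_mem_unipotentRadical D hD J b⁻¹ u (borel_le_parabolic D J (inv_mem hb)) hu
    have h1 := h _ hu'
    have h2 : g * (b⁻¹ * u * (b⁻¹)⁻¹) * g⁻¹ = u := by
      rw [h1]
      group
    have h3 : b⁻¹ * u * (b⁻¹)⁻¹ = g⁻¹ * u * (g⁻¹)⁻¹ := by
      calc b⁻¹ * u * (b⁻¹)⁻¹
          = g⁻¹ * (g * (b⁻¹ * u * (b⁻¹)⁻¹) * g⁻¹) * (g⁻¹)⁻¹ := by group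
        _ = g⁻¹ * u * (g⁻¹)⁻¹ := by rw [h2]
    exact h3.symm

theorem actSub_le_borel (D : ChevalleyDatum) (hD : D ∈ Seven) (J : Set ℕ) (j0 : ℕ)
    (hj0 : j0 < D.rank) (hj0J : j0 ∉ J) : actSub D hD F J ≤ D.borelSubgroup F := by
  have hB : D.borelSubgroup F ≤ actSub D hD F J :=
    fun b hb => ⟨borel_le_parabolic D J hb, b, hb, fun _ _ => rfl⟩
  have hG : actSub D hD F J ≤ D.group F := fun g hg => parabolic_le_group D hD J hg.1
  rcases le_borel_or_exists_n D hD _ hB hG with h | ⟨i, hi, n, hn, hval⟩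
  · exact h
  · obtain ⟨_, b, hb, hact⟩ := hn
    exact (not_act_like_borel D hD J j0 hj0 hj0J i hi n b hval hb hact).elim

/-- an element of `H` centralising `U_J` is trivial -/
theorem diag_eq_one_of_centralizes (D : ChevalleyDatum) (hD : D ∈ Seven) (J : Set ℕ) (j0 : ℕ)
    (hj0 : j0 < D.rank) (hj0J : j0 ∉ J) (h : GL D.Idx F) (hh : h ∈ D.diagonalSubgroup F)
    (hc : ∀ u ∈ D.unipotentRadical F J, h * u * h⁻¹ = u) : h = 1 := by
  obtain ⟨k, hk, hval⟩ := exists_torusMat_of_mem D hD h hh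
  have hrad : ∀ γ ∈ radSet D J, chi D k γ = 1 := by
    intro γ hγ
    have hu := xGL_mem_unipotentRadical (F := F) D hD J γ hγ 1
    have h1 := torus_conj_x D hD h (xGL D hD γ 1) k hk hval γ 1 rfl
    rw [hc _ hu, xGL_val] at h1
    have h2 : D.x F γ (chi D k γ * 1 + (-1)) = 1 := by
      rw [← x_add D hD, ← h1, x_add D hD, add_neg_cancel, x_at_zero]
    have h3 := (Cfsg.Agent.S1024.result D hD γ hγ.1.1 _).1 h2
    rw [mul_one] at h3
    exact add_neg_eq_zero.1 h3
  have hW := weightsOK_all D hD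
  have hs : ∀ i < D.rank, chi D k (D.simple i) = 1 := by
    intro i hi
    obtain ⟨hpp, _⟩ := checkUp_spec D i (chkUp_all D hD i hi)
    by_cases hij : i = j0
    · subst hij
      have hco : co D (D.simple i) i = 1 := by
        have := (checkCoBasis_spec D (chkCoBasis_all D hD)).1 i hi i hi
        rwa [if_pos rfl] at this
      exact hrad _ (mem_radSet_of_co_pos D J i hi hj0J _ hpp (by rw [hco]; exact one_pos))
    · obtain ⟨x, hx, hx0, hp1, hc1, hp2, hc2⟩ :=
        checkAdj_spec D (chkAdj_all D hD) j0 i hj0 hi hij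
      have e := chi_chain D hW k hk (D.simple i) hpp.1 x hx
      rw [hrad _ (mem_radSet_of_co_pos D J j0 hj0 hj0J _ hp2 hc2),
        hrad _ (mem_radSet_of_co_pos D J j0 hj0 hj0J _ hp1 hc1), hx0, zero_add, pow_one,
        mul_one] at e
      exact e.symm
  have hall : ∀ r < D.nroots, r < D.nroots ∧ chi D k r = 1 := by
    refine of_checkForest D (fun r => r < D.nroots ∧ chi D k r = 1) (forestOf D)
      (chkBN_all D hD).1 ?_ ?_
    · intro i hi
      exact ⟨simple_lt D hD i hi, hs i hi⟩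
    · rintro ⟨i, r'⟩ _ hi ⟨hr', hP⟩
      simp only at hi hr' hP ⊢
      refine ⟨(reflectRoot_invol D hD i hi r' hr').1, ?_⟩
      rw [chi_reflect D hD _ hk i hi r' hr', hP, hs i hi, one_zpow, mul_one]
  apply Units.ext
  rw [hval, torusMat_eq_one D k (fun s hs => (hall s hs).2), Units.val_one]

theorem exists_mul_of_mem_sup {G : Type*} [Group G] (U H : Subgroup G)
    (hH : H ≤ Subgroup.normalizer (U : Set G)) (g : G) (hg : g ∈ U ⊔ H) :
    ∃ u ∈ U, ∃ h ∈ H, g = u * h := by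
  rw [Subgroup.sup_eq_closure] at hg
  induction hg using Subgroup.closure_induction with
  | mem x hx =>
    rcases hx with hx | hx
    · exact ⟨x, hx, 1, one_mem _, (mul_one x).symm⟩
    · exact ⟨1, one_mem _, x, hx, (one_mul x).symm⟩
  | one => exact ⟨1, one_mem _, 1, one_mem _, (mul_one 1).symm⟩
  | mul x y _ _ ihx ihy =>
    obtain ⟨u1, hu1, h1, hh1, rfl⟩ := ihx
    obtain ⟨u2, hu2, h2, hh2, rfl⟩ := ihy
    have hc : h1 * u2 * h1⁻¹ ∈ U := (Subgroup.mem_normalizer_iff.1 (hH hh1) u2).1 hu2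
    refine ⟨u1 * (h1 * u2 * h1⁻¹), mul_mem hu1 hc, h1 * h2, mul_mem hh1 hh2, ?_⟩
    group
  | inv x _ ih =>
    obtain ⟨u, hu, h, hh, rfl⟩ := ih
    have hc : h⁻¹ * u⁻¹ * (h⁻¹)⁻¹ ∈ U :=
      (Subgroup.mem_normalizer_iff.1 (hH (inv_mem hh)) u⁻¹).1 (inv_mem hu)
    refine ⟨h⁻¹ * u⁻¹ * (h⁻¹)⁻¹, hc, h⁻¹, inv_mem hh, ?_⟩
    group

theorem pos_isPGroup [Fintype F] (p : ℕ) [Fact p.Prime] [CharP F p] (D : ChevalleyDatum)
    (hD : D ∈ Seven) : IsPGroup p (D.posUnipotent F) := by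
  obtain ⟨n, _, hn⟩ := FiniteField.card F p
  apply IsPGroup.of_card (n := (n : ℕ) * (D.nroots / 2))
  rw [card_posUnipotent D hD, hn, pow_mul]

theorem coprime_card_torus [Fintype F] (p : ℕ) [hp : Fact p.Prime] [CharP F p] (r m : ℕ) :
    Nat.Coprime (p ^ m) (Nat.card (Fin r → Fˣ)) := by
  obtain ⟨n, _, hn⟩ := FiniteField.card F p
  rw [Nat.card_fun, Nat.card_units, Nat.card_eq_fintype_card, hn]
  apply Nat.Coprime.pow
  rw [Nat.Prime.coprime_iff_not_dvd hp.out]
  intro hdvd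
  have h1 : 1 ≤ p ^ (n : ℕ) := Nat.one_le_pow _ _ hp.out.pos
  have h2 : p ∣ (p ^ (n : ℕ) - 1) + 1 := by
    rw [Nat.sub_add_cancel h1]
    exact dvd_pow_self p n.ne_zero
  have h3 : p ∣ 1 := (Nat.dvd_add_right hdvd).1 h2
  exact hp.out.ne_one (Nat.dvd_one.1 h3)

/-- the centraliser of `U_J` in a proper parabolic subgroup `P_J` lies in `U` -/
theorem centralizer_le_pos [Fintype F] (p : ℕ) [Fact p.Prime] [CharP F p] (D : ChevalleyDatum)
    (hD : D ∈ Seven) (J : Set ℕ) (j0 : ℕ) (hj0 : j0 < D.rank) (hj0J : j0 ∉ J) (g : GL D.Idx F)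
    (hg : g ∈ D.parabolicSubgroup F J)
    (hc : ∀ u ∈ D.unipotentRadical F J, g * u * g⁻¹ = u) : g ∈ D.posUnipotent F := by
  have hgB : g ∈ D.borelSubgroup F :=
    actSub_le_borel D hD J j0 hj0 hj0J ⟨hg, 1, one_mem _, fun u hu => by rw [hc u hu]; group⟩
  unfold ChevalleyDatum.borelSubgroup at hgB
  obtain ⟨u, hu, h, hh, rfl⟩ :=
    exists_mul_of_mem_sup _ _ (diagonal_le_normalizer_pos D hD) g hgB
  obtain ⟨m, hm⟩ := pos_isPGroup p D hD ⟨u, hu⟩
  have hm' : u ^ (p ^ m) = 1 := by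
    have := congrArg Subtype.val hm
    simpa using this
  have hconj : ∀ x ∈ D.unipotentRadical F J, h * x * h⁻¹ = u⁻¹ * x * u := by
    intro x hx
    have h1 := hc x hx
    calc h * x * h⁻¹ = u⁻¹ * (u * h * x * (u * h)⁻¹) * u := by group
      _ = u⁻¹ * x * u := by rw [h1]
  have hpow : ∀ j : ℕ, ∀ x ∈ D.unipotentRadical F J,
      h ^ j * x * (h ^ j)⁻¹ = (u ^ j)⁻¹ * x * u ^ j := by
    intro j
    induction j with
    | zero =>
      intro x _
      simp
    | succ j ih =>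
      intro x hx
      have hx' : u⁻¹ * x * u ∈ D.unipotentRadical F J := by
        have := conj_mem_unipotentRadical D hD J u⁻¹ x
          (borel_le_parabolic D J (pos_le_borel D (inv_mem hu))) hx
        rwa [inv_inv] at this
      calc h ^ (j + 1) * x * (h ^ (j + 1))⁻¹
          = h ^ j * (h * x * h⁻¹) * (h ^ j)⁻¹ := by rw [pow_succ]; group
        _ = h ^ j * (u⁻¹ * x * u) * (h ^ j)⁻¹ := by rw [hconj x hx]
        _ = (u ^ j)⁻¹ * (u⁻¹ * x * u) * u ^ j := ih _ hx'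
        _ = (u ^ (j + 1))⁻¹ * x * u ^ (j + 1) := by rw [pow_succ']; group
  have hcent : ∀ x ∈ D.unipotentRadical F J, h ^ (p ^ m) * x * (h ^ (p ^ m))⁻¹ = x := by
    intro x hx
    rw [hpow _ x hx, hm']
    simp
  have h1 : h ^ (p ^ m) = 1 :=
    diag_eq_one_of_centralizes D hD J j0 hj0 hj0J _ (pow_mem hh _) hcent
  have h2 : h ^ (Nat.card (Fin D.rank → Fˣ)) = 1 := by
    have hr : h ∈ (torHom D F).range := by
      rw [torHom_range D hD]
      exact hh
    obtain ⟨c, rfl⟩ := hr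
    rw [← map_pow, pow_card_eq_one', map_one]
  have h3 : orderOf h ∣ 1 := by
    have := Nat.dvd_gcd (orderOf_dvd_of_pow_eq_one h1) (orderOf_dvd_of_pow_eq_one h2)
    rwa [(coprime_card_torus (F := F) p D.rank m).gcd_eq_one] at this
  have h4 : h = 1 := orderOf_eq_one_iff.1 (Nat.dvd_one.1 h3)
  rw [h4, mul_one]
  exact hu

/-- a finite group with a normal `p`-subgroup whose centraliser is a `p`-group has
`F*(G)` a `p`-group -/
theorem gfs_isPGroup_of_centralizer {G : Type*} [Group G] [Finite G] (p : ℕ) [Fact p.Prime]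
    (N : Subgroup G) (hN : N.Normal) (hNp : IsPGroup p N)
    (hC : IsPGroup p (Subgroup.centralizer (N : Set G))) :
    IsPGroup p (generalizedFittingSubgroup G) := by
  have hRn : (pCore p G).Normal := Cfsg.Agent.Lib.Helper7.pCore_normal p G
  have hRp : IsPGroup p (pCore p G) := Cfsg.Agent.Lib.Helper7.pCore_isPGroup p G
  have hNR : N ≤ pCore p G := le_sSup ⟨hN, hNp⟩
  have hCR : Subgroup.centralizer (pCore p G : Set G) ≤ pCore p G := by
    have h1 : Subgroup.centralizer (pCore p G : Set G) ≤ Subgroup.centralizer (N : Set G) :=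
      Subgroup.centralizer_le hNR
    have h2 : IsPGroup p (Subgroup.centralizer (pCore p G : Set G)) := hC.to_le h1
    have h3 : (Subgroup.centralizer (pCore p G : Set G)).Normal := by
      have := hRn
      infer_instance
    exact le_sSup ⟨h3, h2⟩
  rw [(Cfsg.Agent.Lib.Helper8.gfs_eq_pCore_iff p).2 hCR]
  exact hRp

/-- `F*(P_J)` is a `p`-group for every proper parabolic subgroup `P_J` -/
theorem parabolic_gfs_isPGroup [Fintype F] (p : ℕ) [Fact p.Prime] [CharP F p]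
    (D : ChevalleyDatum) (hD : D ∈ Seven) (J : Set ℕ) (hJ : ∃ i, i < D.rank ∧ i ∉ J) :
    IsPGroup p (generalizedFittingSubgroup (D.parabolicSubgroup F J)) := by
  obtain ⟨j0, hj0, hj0J⟩ := hJ
  have hUp := pos_isPGroup (F := F) p D hD
  have hUP : D.unipotentRadical F J ≤ D.parabolicSubgroup F J :=
    (unipotentRadical_le_pos D J).trans ((pos_le_borel D).trans (borel_le_parabolic D J))
  have hN : ((D.unipotentRadical F J).subgroupOf (D.parabolicSubgroup F J)).Normal :=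
    (Subgroup.normal_subgroupOf_iff_le_normalizer hUP).2
      (parabolic_le_normalizer_unipotentRadical D hD J)
  have hNp : IsPGroup p ((D.unipotentRadical F J).subgroupOf (D.parabolicSubgroup F J)) :=
    (hUp.to_le (unipotentRadical_le_pos D J)).comap_subtype
  have hCle : Subgroup.centralizer
      (((D.unipotentRadical F J).subgroupOf (D.parabolicSubgroup F J) :
        Subgroup (D.parabolicSubgroup F J)) : Set (D.parabolicSubgroup F J))
      ≤ (D.posUnipotent F).subgroupOf (D.parabolicSubgroup F J) := by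
    intro c hc
    rw [Subgroup.mem_subgroupOf]
    apply centralizer_le_pos p D hD J j0 hj0 hj0J c.1 c.2
    intro u hu
    have hmem : (⟨u, hUP hu⟩ : D.parabolicSubgroup F J)
        ∈ (D.unipotentRadical F J).subgroupOf (D.parabolicSubgroup F J) := by
      rw [Subgroup.mem_subgroupOf]
      exact hu
    have h1 := Subgroup.mem_centralizer_iff.1 hc _ hmem
    have e : u * c.1 = c.1 * u := congrArg Subtype.val h1
    rw [← e, mul_inv_cancel_right]
  have hC : IsPGroup p (Subgroup.centralizer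
      (((D.unipotentRadical F J).subgroupOf (D.parabolicSubgroup F J) :
        Subgroup (D.parabolicSubgroup F J)) : Set (D.parabolicSubgroup F J))) :=
    (hUp.comap_subtype (K := D.parabolicSubgroup F J)).to_le hCle
  exact gfs_isPGroup_of_centralizer p _ hN hNp hC

end Cfsg.Agent.Lib.Helper5.ParaFit
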